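import Cfsg.Agent.Lib.ToddCox.SP44T.Data0
set_option autoImplicit false
set_option maxRecDepth 100000
namespace Cfsg.Agent.Lib.ToddCox.SP44T
def eT_0_2 (j : ℕ) : ℕ := bif Nat.blt j 1 then E_0 else E_1
def eT_3_5 (j : ℕ) : ℕ := bif Nat.blt j 4 then E_3 else E_4
def eT_2_5 (j : ℕ) : ℕ := bif Nat.blt j 3 then E_2 else (eT_3_5 j)
def eT_0_5 (j : ℕ) : ℕ := bif Nat.blt j 2 then (eT_0_2 j) else (eT_2_5 j)
def eT_5_7 (j : ℕ) : ℕ := bif Nat.blt j 6 then E_5 else E_6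
def eT_8_10 (j : ℕ) : ℕ := bif Nat.blt j 9 then E_8 else E_9
def eT_7_10 (j : ℕ) : ℕ := bif Nat.blt j 8 then E_7 else (eT_8_10 j)
def eT_5_10 (j : ℕ) : ℕ := bif Nat.blt j 7 then (eT_5_7 j) else (eT_7_10 j)
def eT_0_10 (j : ℕ) : ℕ := bif Nat.blt j 5 then (eT_0_5 j) else (eT_5_10 j)
def eT_10_12 (j : ℕ) : ℕ := bif Nat.blt j 11 then E_10 else E_11
def eT_13_15 (j : ℕ) : ℕ := bif Nat.blt j 14 then E_13 else E_14
def eT_12_15 (j : ℕ) : ℕ := bif Nat.blt j 13 then E_12 else (eT_13_15 j)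
def eT_10_15 (j : ℕ) : ℕ := bif Nat.blt j 12 then (eT_10_12 j) else (eT_12_15 j)
def eT_15_17 (j : ℕ) : ℕ := bif Nat.blt j 16 then E_15 else E_16
def eT_18_20 (j : ℕ) : ℕ := bif Nat.blt j 19 then E_18 else E_19
def eT_17_20 (j : ℕ) : ℕ := bif Nat.blt j 18 then E_17 else (eT_18_20 j)
def eT_15_20 (j : ℕ) : ℕ := bif Nat.blt j 17 then (eT_15_17 j) else (eT_17_20 j)
def eT_10_20 (j : ℕ) : ℕ := bif Nat.blt j 15 then (eT_10_15 j) else (eT_15_20 j)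
def eT_0_20 (j : ℕ) : ℕ := bif Nat.blt j 10 then (eT_0_10 j) else (eT_10_20 j)
def eT_20_22 (j : ℕ) : ℕ := bif Nat.blt j 21 then E_20 else E_21
def eT_23_25 (j : ℕ) : ℕ := bif Nat.blt j 24 then E_23 else E_24
def eT_22_25 (j : ℕ) : ℕ := bif Nat.blt j 23 then E_22 else (eT_23_25 j)
def eT_20_25 (j : ℕ) : ℕ := bif Nat.blt j 22 then (eT_20_22 j) else (eT_22_25 j)
def eT_25_27 (j : ℕ) : ℕ := bif Nat.blt j 26 then E_25 else E_26
def eT_28_30 (j : ℕ) : ℕ := bif Nat.blt j 29 then E_28 else E_29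
def eT_27_30 (j : ℕ) : ℕ := bif Nat.blt j 28 then E_27 else (eT_28_30 j)
def eT_25_30 (j : ℕ) : ℕ := bif Nat.blt j 27 then (eT_25_27 j) else (eT_27_30 j)
def eT_20_30 (j : ℕ) : ℕ := bif Nat.blt j 25 then (eT_20_25 j) else (eT_25_30 j)
def eT_30_32 (j : ℕ) : ℕ := bif Nat.blt j 31 then E_30 else E_31
def eT_33_35 (j : ℕ) : ℕ := bif Nat.blt j 34 then E_33 else E_34
def eT_32_35 (j : ℕ) : ℕ := bif Nat.blt j 33 then E_32 else (eT_33_35 j)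
def eT_30_35 (j : ℕ) : ℕ := bif Nat.blt j 32 then (eT_30_32 j) else (eT_32_35 j)
def eT_35_37 (j : ℕ) : ℕ := bif Nat.blt j 36 then E_35 else E_36
def eT_38_40 (j : ℕ) : ℕ := bif Nat.blt j 39 then E_38 else E_39
def eT_37_40 (j : ℕ) : ℕ := bif Nat.blt j 38 then E_37 else (eT_38_40 j)
def eT_35_40 (j : ℕ) : ℕ := bif Nat.blt j 37 then (eT_35_37 j) else (eT_37_40 j)
def eT_30_40 (j : ℕ) : ℕ := bif Nat.blt j 35 then (eT_30_35 j) else (eT_35_40 j)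
def eT_20_40 (j : ℕ) : ℕ := bif Nat.blt j 30 then (eT_20_30 j) else (eT_30_40 j)
def eT_0_40 (j : ℕ) : ℕ := bif Nat.blt j 20 then (eT_0_20 j) else (eT_20_40 j)
def eT (j : ℕ) : ℕ := (eT_0_40 j)
noncomputable def chunkF (h : ℕ) : ℕ := Nat.rec (motive := fun _ => ℕ) (eT 0) (fun n _ => eT (Nat.succ n)) h
noncomputable def Eo (r : ℕ) : ℕ := Nat.land (Nat.shiftRight (chunkF (Nat.shiftRight r 8)) (Nat.mul (Nat.land r 255) 54)) 18014398509481983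
def invT : ℕ := 0xffef7cefae78df6d74cf2c70beeb6caeaa689e69648e28607de75c6da6585d65544d24503ce34c2ca2481c61440c2040
def inv (y : ℕ) : ℕ := invOf invT y
def Wt_0_2 (j : ℕ) : List ℕ := bif Nat.blt j 1 then [nat_lit 0, nat_lit 3, nat_lit 0, nat_lit 3] else [nat_lit 0, nat_lit 4, nat_lit 0, nat_lit 4]
def Wt_2_4 (j : ℕ) : List ℕ := bif Nat.blt j 3 then [nat_lit 0, nat_lit 5, nat_lit 0, nat_lit 5] else [nat_lit 1, nat_lit 3, nat_lit 1, nat_lit 3]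
def Wt_0_4 (j : ℕ) : List ℕ := bif Nat.blt j 2 then (Wt_0_2 j) else (Wt_2_4 j)
def Wt_4_6 (j : ℕ) : List ℕ := bif Nat.blt j 5 then [nat_lit 1, nat_lit 4, nat_lit 1, nat_lit 4] else [nat_lit 1, nat_lit 5, nat_lit 1, nat_lit 5]
def Wt_7_9 (j : ℕ) : List ℕ := bif Nat.blt j 8 then [nat_lit 2, nat_lit 5, nat_lit 2, nat_lit 5] else [nat_lit 1, nat_lit 0, nat_lit 1, nat_lit 0, nat_lit 1, nat_lit 0]
def Wt_6_9 (j : ℕ) : List ℕ := bif Nat.blt j 7 then [nat_lit 2, nat_lit 4, nat_lit 2, nat_lit 4] else (Wt_7_9 j)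
def Wt_4_9 (j : ℕ) : List ℕ := bif Nat.blt j 6 then (Wt_4_6 j) else (Wt_6_9 j)
def Wt_0_9 (j : ℕ) : List ℕ := bif Nat.blt j 4 then (Wt_0_4 j) else (Wt_4_9 j)
def Wt_9_11 (j : ℕ) : List ℕ := bif Nat.blt j 10 then [nat_lit 2, nat_lit 3, nat_lit 2, nat_lit 3] else [nat_lit 0, nat_lit 6, nat_lit 3, nat_lit 6]
def Wt_12_14 (j : ℕ) : List ℕ := bif Nat.blt j 13 then [nat_lit 1, nat_lit 6, nat_lit 4, nat_lit 6] else [nat_lit 5, nat_lit 6, nat_lit 2, nat_lit 6]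
def Wt_11_14 (j : ℕ) : List ℕ := bif Nat.blt j 12 then [nat_lit 3, nat_lit 6, nat_lit 0, nat_lit 6] else (Wt_12_14 j)
def Wt_9_14 (j : ℕ) : List ℕ := bif Nat.blt j 11 then (Wt_9_11 j) else (Wt_11_14 j)
def Wt_14_16 (j : ℕ) : List ℕ := bif Nat.blt j 15 then [nat_lit 4, nat_lit 6, nat_lit 1, nat_lit 6] else [nat_lit 3, nat_lit 4, nat_lit 0, nat_lit 1, nat_lit 7, nat_lit 0, nat_lit 1, nat_lit 0, nat_lit 3, nat_lit 4, nat_lit 3, nat_lit 6, nat_lit 7, nat_lit 1, nat_lit 4, nat_lit 7]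
def Wt_17_19 (j : ℕ) : List ℕ := bif Nat.blt j 18 then [nat_lit 4, nat_lit 3, nat_lit 4, nat_lit 3, nat_lit 4, nat_lit 3] else [nat_lit 1, nat_lit 7, nat_lit 6, nat_lit 3, nat_lit 4, nat_lit 3, nat_lit 0, nat_lit 1, nat_lit 0, nat_lit 7, nat_lit 1, nat_lit 0, nat_lit 4, nat_lit 3, nat_lit 7, nat_lit 4]
def Wt_16_19 (j : ℕ) : List ℕ := bif Nat.blt j 17 then [nat_lit 2, nat_lit 6, nat_lit 5, nat_lit 6] else (Wt_17_19 j)
def Wt_14_19 (j : ℕ) : List ℕ := bif Nat.blt j 16 then (Wt_14_16 j) else (Wt_16_19 j)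
def Wt_9_19 (j : ℕ) : List ℕ := bif Nat.blt j 14 then (Wt_9_14 j) else (Wt_14_19 j)
def Wt_0_19 (j : ℕ) : List ℕ := bif Nat.blt j 9 then (Wt_0_9 j) else (Wt_9_19 j)
def Wt_19_21 (j : ℕ) : List ℕ := bif Nat.blt j 20 then [nat_lit 4, nat_lit 1, nat_lit 4, nat_lit 1] else [nat_lit 0, nat_lit 1, nat_lit 0, nat_lit 3, nat_lit 4, nat_lit 3, nat_lit 6, nat_lit 7, nat_lit 1, nat_lit 4, nat_lit 7, nat_lit 3, nat_lit 4, nat_lit 0, nat_lit 1, nat_lit 7]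
def Wt_22_24 (j : ℕ) : List ℕ := bif Nat.blt j 23 then [nat_lit 6, nat_lit 0, nat_lit 6, nat_lit 3] else [nat_lit 63, nat_lit 0, nat_lit 4, nat_lit 3, nat_lit 7, nat_lit 4, nat_lit 1, nat_lit 7, nat_lit 6, nat_lit 3, nat_lit 4, nat_lit 3, nat_lit 0, nat_lit 1, nat_lit 0, nat_lit 7, nat_lit 1]
def Wt_21_24 (j : ℕ) : List ℕ := bif Nat.blt j 22 then [nat_lit 3, nat_lit 0, nat_lit 3, nat_lit 0] else (Wt_22_24 j)
def Wt_19_24 (j : ℕ) : List ℕ := bif Nat.blt j 21 then (Wt_19_21 j) else (Wt_21_24 j)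
def Wt_24_26 (j : ℕ) : List ℕ := bif Nat.blt j 25 then [nat_lit 63, nat_lit 1, nat_lit 63, nat_lit 1] else [nat_lit 63, nat_lit 4, nat_lit 63, nat_lit 4]
def Wt_27_29 (j : ℕ) : List ℕ := bif Nat.blt j 28 then [nat_lit 63, nat_lit 2, nat_lit 63, nat_lit 2] else [nat_lit 63, nat_lit 3, nat_lit 63, nat_lit 3]
def Wt_26_29 (j : ℕ) : List ℕ := bif Nat.blt j 27 then [nat_lit 63, nat_lit 7, nat_lit 63, nat_lit 7] else (Wt_27_29 j)
def Wt_24_29 (j : ℕ) : List ℕ := bif Nat.blt j 26 then (Wt_24_26 j) else (Wt_26_29 j)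
def Wt_19_29 (j : ℕ) : List ℕ := bif Nat.blt j 24 then (Wt_19_24 j) else (Wt_24_29 j)
def Wt_29_31 (j : ℕ) : List ℕ := bif Nat.blt j 30 then [nat_lit 63, nat_lit 5, nat_lit 63, nat_lit 5] else [nat_lit 63, nat_lit 6, nat_lit 63, nat_lit 6, nat_lit 63]
def Wt_32_34 (j : ℕ) : List ℕ := bif Nat.blt j 33 then [nat_lit 63, nat_lit 63, nat_lit 63] else [nat_lit 63, nat_lit 1, nat_lit 63, nat_lit 1, nat_lit 63]
def Wt_31_34 (j : ℕ) : List ℕ := bif Nat.blt j 32 then [nat_lit 63, nat_lit 0, nat_lit 63, nat_lit 0] else (Wt_32_34 j)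
def Wt_29_34 (j : ℕ) : List ℕ := bif Nat.blt j 31 then (Wt_29_31 j) else (Wt_31_34 j)
def Wt_34_36 (j : ℕ) : List ℕ := bif Nat.blt j 35 then [nat_lit 63, nat_lit 2, nat_lit 63, nat_lit 2, nat_lit 63] else [nat_lit 6, nat_lit 6, nat_lit 63]
def Wt_37_39 (j : ℕ) : List ℕ := bif Nat.blt j 38 then [nat_lit 4, nat_lit 4, nat_lit 63] else [nat_lit 6, nat_lit 1, nat_lit 6, nat_lit 4]
def Wt_36_39 (j : ℕ) : List ℕ := bif Nat.blt j 37 then [nat_lit 3, nat_lit 3, nat_lit 63] else (Wt_37_39 j)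
def Wt_34_39 (j : ℕ) : List ℕ := bif Nat.blt j 36 then (Wt_34_36 j) else (Wt_36_39 j)
def Wt_29_39 (j : ℕ) : List ℕ := bif Nat.blt j 34 then (Wt_29_34 j) else (Wt_34_39 j)
def Wt_19_39 (j : ℕ) : List ℕ := bif Nat.blt j 29 then (Wt_19_29 j) else (Wt_29_39 j)
def Wt_0_39 (j : ℕ) : List ℕ := bif Nat.blt j 19 then (Wt_0_19 j) else (Wt_19_39 j)
def Wt_39_41 (j : ℕ) : List ℕ := bif Nat.blt j 40 then [nat_lit 6, nat_lit 2, nat_lit 6, nat_lit 5] else [nat_lit 3, nat_lit 1, nat_lit 3, nat_lit 1]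
def Wt_42_44 (j : ℕ) : List ℕ := bif Nat.blt j 43 then [nat_lit 4, nat_lit 1, nat_lit 7, nat_lit 6, nat_lit 3, nat_lit 4, nat_lit 3, nat_lit 0, nat_lit 1, nat_lit 0, nat_lit 7, nat_lit 1, nat_lit 0, nat_lit 4, nat_lit 3, nat_lit 7] else [nat_lit 3, nat_lit 2, nat_lit 3, nat_lit 2]
def Wt_41_44 (j : ℕ) : List ℕ := bif Nat.blt j 42 then [nat_lit 0, nat_lit 1, nat_lit 0, nat_lit 1, nat_lit 0, nat_lit 1] else (Wt_42_44 j)
def Wt_39_44 (j : ℕ) : List ℕ := bif Nat.blt j 41 then (Wt_39_41 j) else (Wt_41_44 j)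
def Wt_44_46 (j : ℕ) : List ℕ := bif Nat.blt j 45 then [nat_lit 7, nat_lit 4, nat_lit 5, nat_lit 4, nat_lit 7, nat_lit 4, nat_lit 5, nat_lit 4, nat_lit 5, nat_lit 4, nat_lit 2, nat_lit 0, nat_lit 7, nat_lit 4, nat_lit 5, nat_lit 4, nat_lit 5] else [nat_lit 2, nat_lit 1, nat_lit 2, nat_lit 1, nat_lit 2, nat_lit 1, nat_lit 2, nat_lit 1, nat_lit 2, nat_lit 1]
def Wt_47_49 (j : ℕ) : List ℕ := bif Nat.blt j 48 then [nat_lit 63, nat_lit 5, nat_lit 4, nat_lit 5, nat_lit 7, nat_lit 4, nat_lit 5, nat_lit 4, nat_lit 7, nat_lit 4, nat_lit 5, nat_lit 4, nat_lit 5, nat_lit 4, nat_lit 2, nat_lit 0, nat_lit 7, nat_lit 4] else [nat_lit 63, nat_lit 6, nat_lit 63, nat_lit 6]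
def Wt_46_49 (j : ℕ) : List ℕ := bif Nat.blt j 47 then [nat_lit 5, nat_lit 4, nat_lit 5, nat_lit 4, nat_lit 5, nat_lit 4, nat_lit 5, nat_lit 4, nat_lit 5, nat_lit 4] else (Wt_47_49 j)
def Wt_44_49 (j : ℕ) : List ℕ := bif Nat.blt j 46 then (Wt_44_46 j) else (Wt_46_49 j)
def Wt_39_49 (j : ℕ) : List ℕ := bif Nat.blt j 44 then (Wt_39_44 j) else (Wt_44_49 j)
def Wt_49_51 (j : ℕ) : List ℕ := bif Nat.blt j 50 then [nat_lit 0, nat_lit 0, nat_lit 63] else [nat_lit 1, nat_lit 1, nat_lit 63]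
def Wt_52_54 (j : ℕ) : List ℕ := bif Nat.blt j 53 then [nat_lit 63, nat_lit 4, nat_lit 7, nat_lit 5, nat_lit 4, nat_lit 5, nat_lit 4, nat_lit 7, nat_lit 0, nat_lit 2, nat_lit 4, nat_lit 5, nat_lit 4, nat_lit 5, nat_lit 4, nat_lit 7, nat_lit 4, nat_lit 5] else [nat_lit 7, nat_lit 4, nat_lit 5, nat_lit 4, nat_lit 5, nat_lit 7, nat_lit 4, nat_lit 5, nat_lit 4, nat_lit 7, nat_lit 4, nat_lit 5, nat_lit 4, nat_lit 5, nat_lit 4, nat_lit 2, nat_lit 0]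
def Wt_51_54 (j : ℕ) : List ℕ := bif Nat.blt j 52 then [nat_lit 2, nat_lit 2, nat_lit 63] else (Wt_52_54 j)
def Wt_49_54 (j : ℕ) : List ℕ := bif Nat.blt j 51 then (Wt_49_51 j) else (Wt_51_54 j)
def Wt_54_56 (j : ℕ) : List ℕ := bif Nat.blt j 55 then [nat_lit 63, nat_lit 4, nat_lit 5, nat_lit 4, nat_lit 7, nat_lit 0, nat_lit 2, nat_lit 4, nat_lit 5, nat_lit 4, nat_lit 5, nat_lit 4, nat_lit 7, nat_lit 4, nat_lit 5, nat_lit 4, nat_lit 7, nat_lit 5] else [nat_lit 5, nat_lit 5, nat_lit 63]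
def Wt_57_59 (j : ℕ) : List ℕ := bif Nat.blt j 58 then [nat_lit 63, nat_lit 4, nat_lit 5, nat_lit 4, nat_lit 5, nat_lit 4, nat_lit 7, nat_lit 4, nat_lit 5, nat_lit 4, nat_lit 7, nat_lit 5, nat_lit 4, nat_lit 5, nat_lit 4, nat_lit 7, nat_lit 0, nat_lit 2] else [nat_lit 4, nat_lit 0, nat_lit 4, nat_lit 0]
def Wt_56_59 (j : ℕ) : List ℕ := bif Nat.blt j 57 then [nat_lit 63, nat_lit 4, nat_lit 5, nat_lit 7, nat_lit 4, nat_lit 5, nat_lit 4, nat_lit 7, nat_lit 4, nat_lit 5, nat_lit 4, nat_lit 5, nat_lit 4, nat_lit 2, nat_lit 0, nat_lit 7, nat_lit 4, nat_lit 5] else (Wt_57_59 j)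
def Wt_54_59 (j : ℕ) : List ℕ := bif Nat.blt j 56 then (Wt_54_56 j) else (Wt_56_59 j)
def Wt_49_59 (j : ℕ) : List ℕ := bif Nat.blt j 54 then (Wt_49_54 j) else (Wt_54_59 j)
def Wt_39_59 (j : ℕ) : List ℕ := bif Nat.blt j 49 then (Wt_39_49 j) else (Wt_49_59 j)
def Wt_59_61 (j : ℕ) : List ℕ := bif Nat.blt j 60 then [nat_lit 63, nat_lit 4, nat_lit 5, nat_lit 4, nat_lit 5, nat_lit 4, nat_lit 5, nat_lit 4, nat_lit 5, nat_lit 4, nat_lit 5] else [nat_lit 63, nat_lit 5, nat_lit 4, nat_lit 5, nat_lit 4, nat_lit 7, nat_lit 0, nat_lit 2, nat_lit 4, nat_lit 5, nat_lit 4, nat_lit 5, nat_lit 4, nat_lit 7, nat_lit 4, nat_lit 5, nat_lit 4, nat_lit 7]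
def Wt_62_64 (j : ℕ) : List ℕ := bif Nat.blt j 63 then [nat_lit 63, nat_lit 0, nat_lit 63, nat_lit 0, nat_lit 63] else [nat_lit 63, nat_lit 63, nat_lit 1, nat_lit 63, nat_lit 1]
def Wt_61_64 (j : ℕ) : List ℕ := bif Nat.blt j 62 then [nat_lit 63, nat_lit 3, nat_lit 63, nat_lit 3, nat_lit 63] else (Wt_62_64 j)
def Wt_59_64 (j : ℕ) : List ℕ := bif Nat.blt j 61 then (Wt_59_61 j) else (Wt_61_64 j)
def Wt_64_66 (j : ℕ) : List ℕ := bif Nat.blt j 65 then [nat_lit 5, nat_lit 2, nat_lit 5, nat_lit 2] else [nat_lit 5, nat_lit 0, nat_lit 5, nat_lit 0]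
def Wt_67_69 (j : ℕ) : List ℕ := bif Nat.blt j 68 then [nat_lit 63, nat_lit 7, nat_lit 4, nat_lit 5, nat_lit 4, nat_lit 5, nat_lit 7, nat_lit 4, nat_lit 5, nat_lit 4, nat_lit 7, nat_lit 4, nat_lit 5, nat_lit 4, nat_lit 5, nat_lit 4, nat_lit 2, nat_lit 0] else [nat_lit 1, nat_lit 2, nat_lit 0, nat_lit 1, nat_lit 2, nat_lit 0, nat_lit 1, nat_lit 0, nat_lit 2, nat_lit 1, nat_lit 0, nat_lit 2, nat_lit 1, nat_lit 0, nat_lit 2]
def Wt_66_69 (j : ℕ) : List ℕ := bif Nat.blt j 67 then [nat_lit 4, nat_lit 5, nat_lit 4, nat_lit 5, nat_lit 4, nat_lit 5, nat_lit 4, nat_lit 5, nat_lit 4, nat_lit 5] else (Wt_67_69 j)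
def Wt_64_69 (j : ℕ) : List ℕ := bif Nat.blt j 66 then (Wt_64_66 j) else (Wt_66_69 j)
def Wt_59_69 (j : ℕ) : List ℕ := bif Nat.blt j 64 then (Wt_59_64 j) else (Wt_64_69 j)
def Wt_69_71 (j : ℕ) : List ℕ := bif Nat.blt j 70 then [nat_lit 0, nat_lit 1, nat_lit 2, nat_lit 0, nat_lit 1, nat_lit 2, nat_lit 0, nat_lit 1, nat_lit 0, nat_lit 2, nat_lit 1, nat_lit 0, nat_lit 2, nat_lit 1, nat_lit 2] else [nat_lit 63, nat_lit 0, nat_lit 2, nat_lit 1, nat_lit 0, nat_lit 2, nat_lit 1, nat_lit 2, nat_lit 0, nat_lit 1, nat_lit 2, nat_lit 0, nat_lit 1, nat_lit 0, nat_lit 2, nat_lit 1]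
def Wt_72_74 (j : ℕ) : List ℕ := bif Nat.blt j 73 then [nat_lit 5, nat_lit 1, nat_lit 5, nat_lit 1] else [nat_lit 4, nat_lit 2, nat_lit 4, nat_lit 2]
def Wt_71_74 (j : ℕ) : List ℕ := bif Nat.blt j 72 then [nat_lit 63, nat_lit 0, nat_lit 1, nat_lit 2, nat_lit 0, nat_lit 1, nat_lit 0, nat_lit 2, nat_lit 1, nat_lit 0, nat_lit 2, nat_lit 1, nat_lit 0, nat_lit 2, nat_lit 1, nat_lit 2] else (Wt_72_74 j)
def Wt_69_74 (j : ℕ) : List ℕ := bif Nat.blt j 71 then (Wt_69_71 j) else (Wt_71_74 j)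
def Wt_74_76 (j : ℕ) : List ℕ := bif Nat.blt j 75 then [nat_lit 4, nat_lit 5, nat_lit 3, nat_lit 4, nat_lit 5, nat_lit 3, nat_lit 4, nat_lit 3, nat_lit 5, nat_lit 4, nat_lit 3, nat_lit 5, nat_lit 4, nat_lit 3, nat_lit 5] else [nat_lit 3, nat_lit 5, nat_lit 4, nat_lit 5, nat_lit 3, nat_lit 4, nat_lit 5, nat_lit 3, nat_lit 4, nat_lit 5, nat_lit 3, nat_lit 4, nat_lit 3, nat_lit 5, nat_lit 4]
def Wt_77_79 (j : ℕ) : List ℕ := bif Nat.blt j 78 then [nat_lit 4, nat_lit 0, nat_lit 1, nat_lit 7, nat_lit 0, nat_lit 1, nat_lit 0, nat_lit 3, nat_lit 4, nat_lit 3, nat_lit 6, nat_lit 7, nat_lit 1, nat_lit 4, nat_lit 7, nat_lit 3] else [nat_lit 63, nat_lit 63, nat_lit 6, nat_lit 63, nat_lit 6, nat_lit 63]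
def Wt_76_79 (j : ℕ) : List ℕ := bif Nat.blt j 77 then [nat_lit 7, nat_lit 4, nat_lit 1, nat_lit 7, nat_lit 6, nat_lit 3, nat_lit 4, nat_lit 3, nat_lit 0, nat_lit 1, nat_lit 0, nat_lit 7, nat_lit 1, nat_lit 0, nat_lit 4, nat_lit 3] else (Wt_77_79 j)
def Wt_74_79 (j : ℕ) : List ℕ := bif Nat.blt j 76 then (Wt_74_76 j) else (Wt_76_79 j)
def Wt_69_79 (j : ℕ) : List ℕ := bif Nat.blt j 74 then (Wt_69_74 j) else (Wt_74_79 j)
def Wt_59_79 (j : ℕ) : List ℕ := bif Nat.blt j 69 then (Wt_59_69 j) else (Wt_69_79 j)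
def Wt_39_79 (j : ℕ) : List ℕ := bif Nat.blt j 59 then (Wt_39_59 j) else (Wt_59_79 j)
def Wt_0_79 (j : ℕ) : List ℕ := bif Nat.blt j 39 then (Wt_0_39 j) else (Wt_39_79 j)
def Wt_79_81 (j : ℕ) : List ℕ := bif Nat.blt j 80 then [nat_lit 63, nat_lit 4, nat_lit 63, nat_lit 4, nat_lit 63] else [nat_lit 63, nat_lit 63, nat_lit 5, nat_lit 63, nat_lit 5]
def Wt_82_84 (j : ℕ) : List ℕ := bif Nat.blt j 83 then [nat_lit 6, nat_lit 3, nat_lit 6, nat_lit 0] else [nat_lit 6, nat_lit 5, nat_lit 6, nat_lit 2]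
def Wt_81_84 (j : ℕ) : List ℕ := bif Nat.blt j 82 then [nat_lit 63, nat_lit 4, nat_lit 0, nat_lit 1, nat_lit 7, nat_lit 0, nat_lit 1, nat_lit 0, nat_lit 3, nat_lit 4, nat_lit 3, nat_lit 6, nat_lit 7, nat_lit 1, nat_lit 4, nat_lit 7, nat_lit 3] else (Wt_82_84 j)
def Wt_79_84 (j : ℕ) : List ℕ := bif Nat.blt j 81 then (Wt_79_81 j) else (Wt_81_84 j)
def Wt_84_86 (j : ℕ) : List ℕ := bif Nat.blt j 85 then [nat_lit 6, nat_lit 4, nat_lit 6, nat_lit 1] else [nat_lit 63, nat_lit 7, nat_lit 4, nat_lit 1, nat_lit 7, nat_lit 6, nat_lit 3, nat_lit 4, nat_lit 3, nat_lit 0, nat_lit 1, nat_lit 0, nat_lit 7, nat_lit 1, nat_lit 0, nat_lit 4, nat_lit 3]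
def Wt_87_89 (j : ℕ) : List ℕ := bif Nat.blt j 88 then [nat_lit 0, nat_lit 2, nat_lit 1, nat_lit 2, nat_lit 0, nat_lit 1, nat_lit 2, nat_lit 0, nat_lit 1, nat_lit 2, nat_lit 0, nat_lit 1, nat_lit 0, nat_lit 2, nat_lit 1] else [nat_lit 7, nat_lit 7, nat_lit 63]
def Wt_86_89 (j : ℕ) : List ℕ := bif Nat.blt j 87 then [nat_lit 63, nat_lit 3, nat_lit 0, nat_lit 1, nat_lit 0, nat_lit 7, nat_lit 1, nat_lit 0, nat_lit 4, nat_lit 3, nat_lit 7, nat_lit 4, nat_lit 1, nat_lit 7, nat_lit 6, nat_lit 3, nat_lit 4] else (Wt_87_89 j)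
def Wt_84_89 (j : ℕ) : List ℕ := bif Nat.blt j 86 then (Wt_84_86 j) else (Wt_86_89 j)
def Wt_79_89 (j : ℕ) : List ℕ := bif Nat.blt j 84 then (Wt_79_84 j) else (Wt_84_89 j)
def Wt_89_91 (j : ℕ) : List ℕ := bif Nat.blt j 90 then [nat_lit 1, nat_lit 0, nat_lit 2, nat_lit 1, nat_lit 2, nat_lit 0, nat_lit 1, nat_lit 2, nat_lit 0, nat_lit 1, nat_lit 0, nat_lit 2, nat_lit 1, nat_lit 0, nat_lit 2] else [nat_lit 63, nat_lit 0, nat_lit 2, nat_lit 1, nat_lit 0, nat_lit 2, nat_lit 1, nat_lit 2, nat_lit 0, nat_lit 1, nat_lit 2, nat_lit 0, nat_lit 1, nat_lit 2, nat_lit 0, nat_lit 1]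
def Wt_92_94 (j : ℕ) : List ℕ := bif Nat.blt j 93 then [nat_lit 63, nat_lit 0, nat_lit 1, nat_lit 2, nat_lit 0, nat_lit 1, nat_lit 0, nat_lit 2, nat_lit 1, nat_lit 0, nat_lit 2, nat_lit 1, nat_lit 2, nat_lit 0, nat_lit 1, nat_lit 2] else [nat_lit 7, nat_lit 4, nat_lit 5, nat_lit 4, nat_lit 7, nat_lit 5, nat_lit 4, nat_lit 5, nat_lit 4, nat_lit 7, nat_lit 0, nat_lit 2, nat_lit 4, nat_lit 5, nat_lit 4, nat_lit 5, nat_lit 4]
def Wt_91_94 (j : ℕ) : List ℕ := bif Nat.blt j 92 then [nat_lit 63, nat_lit 2, nat_lit 0, nat_lit 1, nat_lit 2, nat_lit 0, nat_lit 1, nat_lit 2, nat_lit 0, nat_lit 1, nat_lit 0, nat_lit 2, nat_lit 1, nat_lit 0, nat_lit 2, nat_lit 1] else (Wt_92_94 j)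
def Wt_89_94 (j : ℕ) : List ℕ := bif Nat.blt j 91 then (Wt_89_91 j) else (Wt_91_94 j)
def Wt_94_96 (j : ℕ) : List ℕ := bif Nat.blt j 95 then [nat_lit 63, nat_lit 2, nat_lit 4, nat_lit 5, nat_lit 4, nat_lit 5, nat_lit 4, nat_lit 7, nat_lit 4, nat_lit 5, nat_lit 4, nat_lit 7, nat_lit 5, nat_lit 4, nat_lit 5, nat_lit 4, nat_lit 7, nat_lit 0] else [nat_lit 5, nat_lit 7, nat_lit 4, nat_lit 5, nat_lit 4, nat_lit 7, nat_lit 4, nat_lit 5, nat_lit 4, nat_lit 5, nat_lit 4, nat_lit 2, nat_lit 0, nat_lit 7, nat_lit 4, nat_lit 5, nat_lit 4]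
def Wt_97_99 (j : ℕ) : List ℕ := bif Nat.blt j 98 then [nat_lit 4, nat_lit 3, nat_lit 7, nat_lit 4, nat_lit 1, nat_lit 7, nat_lit 6, nat_lit 3, nat_lit 4, nat_lit 3, nat_lit 0, nat_lit 1, nat_lit 0, nat_lit 7, nat_lit 1, nat_lit 0] else [nat_lit 7, nat_lit 3, nat_lit 4, nat_lit 0, nat_lit 1, nat_lit 7, nat_lit 0, nat_lit 1, nat_lit 0, nat_lit 3, nat_lit 4, nat_lit 3, nat_lit 6, nat_lit 7, nat_lit 1, nat_lit 4]
def Wt_96_99 (j : ℕ) : List ℕ := bif Nat.blt j 97 then [nat_lit 63, nat_lit 5, nat_lit 4, nat_lit 5, nat_lit 4, nat_lit 7, nat_lit 4, nat_lit 5, nat_lit 4, nat_lit 7, nat_lit 5, nat_lit 4, nat_lit 5, nat_lit 4, nat_lit 7, nat_lit 0, nat_lit 2, nat_lit 4] else (Wt_97_99 j)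
def Wt_94_99 (j : ℕ) : List ℕ := bif Nat.blt j 96 then (Wt_94_96 j) else (Wt_96_99 j)
def Wt_89_99 (j : ℕ) : List ℕ := bif Nat.blt j 94 then (Wt_89_94 j) else (Wt_94_99 j)
def Wt_79_99 (j : ℕ) : List ℕ := bif Nat.blt j 89 then (Wt_79_89 j) else (Wt_89_99 j)
def Wt_99_101 (j : ℕ) : List ℕ := bif Nat.blt j 100 then [nat_lit 0, nat_lit 1, nat_lit 7, nat_lit 0, nat_lit 1, nat_lit 0, nat_lit 3, nat_lit 4, nat_lit 3, nat_lit 6, nat_lit 7, nat_lit 1, nat_lit 4, nat_lit 7, nat_lit 3, nat_lit 4] else [nat_lit 63, nat_lit 4, nat_lit 0, nat_lit 4, nat_lit 0]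
def Wt_102_104 (j : ℕ) : List ℕ := bif Nat.blt j 103 then [nat_lit 63, nat_lit 5, nat_lit 4, nat_lit 7, nat_lit 0, nat_lit 2, nat_lit 4, nat_lit 5, nat_lit 4, nat_lit 5, nat_lit 4, nat_lit 7, nat_lit 4, nat_lit 5, nat_lit 4, nat_lit 7, nat_lit 5, nat_lit 4] else [nat_lit 63, nat_lit 7, nat_lit 0, nat_lit 2, nat_lit 4, nat_lit 5, nat_lit 4, nat_lit 5, nat_lit 4, nat_lit 7, nat_lit 4, nat_lit 5, nat_lit 4, nat_lit 7, nat_lit 5, nat_lit 4, nat_lit 5, nat_lit 4]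
def Wt_101_104 (j : ℕ) : List ℕ := bif Nat.blt j 102 then [nat_lit 7, nat_lit 5, nat_lit 4, nat_lit 5, nat_lit 4, nat_lit 7, nat_lit 0, nat_lit 2, nat_lit 4, nat_lit 5, nat_lit 4, nat_lit 5, nat_lit 4, nat_lit 7, nat_lit 4, nat_lit 5, nat_lit 4] else (Wt_102_104 j)
def Wt_99_104 (j : ℕ) : List ℕ := bif Nat.blt j 101 then (Wt_99_101 j) else (Wt_101_104 j)
def Wt_104_106 (j : ℕ) : List ℕ := bif Nat.blt j 105 then [nat_lit 63, nat_lit 5, nat_lit 63, nat_lit 5, nat_lit 63] else [nat_lit 63, nat_lit 63, nat_lit 7, nat_lit 63, nat_lit 7]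
def Wt_107_109 (j : ℕ) : List ℕ := bif Nat.blt j 108 then [nat_lit 5, nat_lit 4, nat_lit 7, nat_lit 4, nat_lit 5, nat_lit 4, nat_lit 5, nat_lit 4, nat_lit 2, nat_lit 0, nat_lit 7, nat_lit 4, nat_lit 5, nat_lit 4, nat_lit 5, nat_lit 7, nat_lit 4] else [nat_lit 63, nat_lit 7, nat_lit 4, nat_lit 5, nat_lit 4, nat_lit 7, nat_lit 4, nat_lit 5, nat_lit 4, nat_lit 5, nat_lit 4, nat_lit 2, nat_lit 0, nat_lit 7, nat_lit 4, nat_lit 5, nat_lit 4, nat_lit 5]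
def Wt_106_109 (j : ℕ) : List ℕ := bif Nat.blt j 107 then [nat_lit 63, nat_lit 7, nat_lit 63, nat_lit 7, nat_lit 63] else (Wt_107_109 j)
def Wt_104_109 (j : ℕ) : List ℕ := bif Nat.blt j 106 then (Wt_104_106 j) else (Wt_106_109 j)
def Wt_99_109 (j : ℕ) : List ℕ := bif Nat.blt j 104 then (Wt_99_104 j) else (Wt_104_109 j)
def Wt_109_111 (j : ℕ) : List ℕ := bif Nat.blt j 110 then [nat_lit 63, nat_lit 4, nat_lit 5, nat_lit 4, nat_lit 7, nat_lit 4, nat_lit 5, nat_lit 4, nat_lit 5, nat_lit 4, nat_lit 2, nat_lit 0, nat_lit 7, nat_lit 4, nat_lit 5, nat_lit 4, nat_lit 5, nat_lit 7] else [nat_lit 63, nat_lit 0, nat_lit 2, nat_lit 4, nat_lit 5, nat_lit 4, nat_lit 5, nat_lit 4, nat_lit 7, nat_lit 4, nat_lit 5, nat_lit 4, nat_lit 7, nat_lit 5, nat_lit 4, nat_lit 5, nat_lit 4, nat_lit 7]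
def Wt_112_114 (j : ℕ) : List ℕ := bif Nat.blt j 113 then [nat_lit 63, nat_lit 4, nat_lit 2, nat_lit 0, nat_lit 7, nat_lit 4, nat_lit 5, nat_lit 4, nat_lit 5, nat_lit 7, nat_lit 4, nat_lit 5, nat_lit 4, nat_lit 7, nat_lit 4, nat_lit 5, nat_lit 4, nat_lit 5] else [nat_lit 4, nat_lit 63, nat_lit 4, nat_lit 63]
def Wt_111_114 (j : ℕ) : List ℕ := bif Nat.blt j 112 then [nat_lit 1, nat_lit 2, nat_lit 1, nat_lit 2, nat_lit 1, nat_lit 2, nat_lit 1, nat_lit 2, nat_lit 1, nat_lit 2] else (Wt_112_114 j)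
def Wt_109_114 (j : ℕ) : List ℕ := bif Nat.blt j 111 then (Wt_109_111 j) else (Wt_111_114 j)
def Wt_114_116 (j : ℕ) : List ℕ := bif Nat.blt j 115 then [nat_lit 0, nat_lit 7, nat_lit 4, nat_lit 5, nat_lit 4, nat_lit 5, nat_lit 7, nat_lit 4, nat_lit 5, nat_lit 4, nat_lit 7, nat_lit 4, nat_lit 5, nat_lit 4, nat_lit 5, nat_lit 4, nat_lit 2] else [nat_lit 63, nat_lit 4, nat_lit 7, nat_lit 3, nat_lit 4, nat_lit 0, nat_lit 1, nat_lit 7, nat_lit 0, nat_lit 1, nat_lit 0, nat_lit 3, nat_lit 4, nat_lit 3, nat_lit 6, nat_lit 7, nat_lit 1]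
def Wt_117_119 (j : ℕ) : List ℕ := bif Nat.blt j 118 then [nat_lit 5, nat_lit 4, nat_lit 5, nat_lit 4, nat_lit 7, nat_lit 0, nat_lit 2, nat_lit 4, nat_lit 5, nat_lit 4, nat_lit 5, nat_lit 4, nat_lit 7, nat_lit 4, nat_lit 5, nat_lit 4, nat_lit 7] else [nat_lit 63, nat_lit 1, nat_lit 5, nat_lit 1, nat_lit 5]
def Wt_116_119 (j : ℕ) : List ℕ := bif Nat.blt j 117 then [nat_lit 4, nat_lit 5, nat_lit 4, nat_lit 7, nat_lit 5, nat_lit 4, nat_lit 5, nat_lit 4, nat_lit 7, nat_lit 0, nat_lit 2, nat_lit 4, nat_lit 5, nat_lit 4, nat_lit 5, nat_lit 4, nat_lit 7] else (Wt_117_119 j)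
def Wt_114_119 (j : ℕ) : List ℕ := bif Nat.blt j 116 then (Wt_114_116 j) else (Wt_116_119 j)
def Wt_109_119 (j : ℕ) : List ℕ := bif Nat.blt j 114 then (Wt_109_114 j) else (Wt_114_119 j)
def Wt_99_119 (j : ℕ) : List ℕ := bif Nat.blt j 109 then (Wt_99_109 j) else (Wt_109_119 j)
def Wt_79_119 (j : ℕ) : List ℕ := bif Nat.blt j 99 then (Wt_79_99 j) else (Wt_99_119 j)
def Wt_119_121 (j : ℕ) : List ℕ := bif Nat.blt j 120 then [nat_lit 63, nat_lit 1, nat_lit 0, nat_lit 1, nat_lit 0, nat_lit 1, nat_lit 0] else [nat_lit 63, nat_lit 3, nat_lit 7, nat_lit 4, nat_lit 1, nat_lit 7, nat_lit 6, nat_lit 3, nat_lit 4, nat_lit 3, nat_lit 0, nat_lit 1, nat_lit 0, nat_lit 7, nat_lit 1, nat_lit 0, nat_lit 4]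
def Wt_122_124 (j : ℕ) : List ℕ := bif Nat.blt j 123 then [nat_lit 3, nat_lit 4, nat_lit 5, nat_lit 3, nat_lit 4, nat_lit 3, nat_lit 5, nat_lit 4, nat_lit 3, nat_lit 5, nat_lit 4, nat_lit 3, nat_lit 5, nat_lit 4, nat_lit 5] else [nat_lit 63, nat_lit 2, nat_lit 5, nat_lit 2, nat_lit 5]
def Wt_121_124 (j : ℕ) : List ℕ := bif Nat.blt j 122 then [nat_lit 0, nat_lit 2, nat_lit 1, nat_lit 0, nat_lit 2, nat_lit 1, nat_lit 2, nat_lit 0, nat_lit 1, nat_lit 2, nat_lit 0, nat_lit 1, nat_lit 0, nat_lit 2, nat_lit 1] else (Wt_122_124 j)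
def Wt_119_124 (j : ℕ) : List ℕ := bif Nat.blt j 121 then (Wt_119_121 j) else (Wt_121_124 j)
def Wt_124_126 (j : ℕ) : List ℕ := bif Nat.blt j 125 then [nat_lit 63, nat_lit 0, nat_lit 7, nat_lit 4, nat_lit 5, nat_lit 4, nat_lit 5, nat_lit 7, nat_lit 4, nat_lit 5, nat_lit 4, nat_lit 7, nat_lit 4, nat_lit 5, nat_lit 4, nat_lit 5, nat_lit 4, nat_lit 2] else [nat_lit 63, nat_lit 4, nat_lit 5, nat_lit 4, nat_lit 7, nat_lit 4, nat_lit 5, nat_lit 4, nat_lit 7, nat_lit 5, nat_lit 4, nat_lit 5, nat_lit 4, nat_lit 7, nat_lit 0, nat_lit 2, nat_lit 4, nat_lit 5]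
def Wt_127_129 (j : ℕ) : List ℕ := bif Nat.blt j 128 then [nat_lit 63, nat_lit 5, nat_lit 4, nat_lit 5, nat_lit 4, nat_lit 5, nat_lit 4, nat_lit 5, nat_lit 4, nat_lit 5, nat_lit 4] else [nat_lit 63, nat_lit 1, nat_lit 0, nat_lit 3, nat_lit 4, nat_lit 3, nat_lit 6, nat_lit 7, nat_lit 1, nat_lit 4, nat_lit 7, nat_lit 3, nat_lit 4, nat_lit 0, nat_lit 1, nat_lit 7, nat_lit 0]
def Wt_126_129 (j : ℕ) : List ℕ := bif Nat.blt j 127 then [nat_lit 63, nat_lit 63, nat_lit 2, nat_lit 63, nat_lit 2] else (Wt_127_129 j)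
def Wt_124_129 (j : ℕ) : List ℕ := bif Nat.blt j 126 then (Wt_124_126 j) else (Wt_126_129 j)
def Wt_119_129 (j : ℕ) : List ℕ := bif Nat.blt j 124 then (Wt_119_124 j) else (Wt_124_129 j)
def Wt_129_131 (j : ℕ) : List ℕ := bif Nat.blt j 130 then [nat_lit 63, nat_lit 5, nat_lit 4, nat_lit 7, nat_lit 4, nat_lit 5, nat_lit 4, nat_lit 5, nat_lit 4, nat_lit 2, nat_lit 0, nat_lit 7, nat_lit 4, nat_lit 5, nat_lit 4, nat_lit 5, nat_lit 7, nat_lit 4] else [nat_lit 63, nat_lit 5, nat_lit 7, nat_lit 4, nat_lit 5, nat_lit 4, nat_lit 7, nat_lit 4, nat_lit 5, nat_lit 4, nat_lit 5, nat_lit 4, nat_lit 2, nat_lit 0, nat_lit 7, nat_lit 4, nat_lit 5, nat_lit 4]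
def Wt_132_134 (j : ℕ) : List ℕ := bif Nat.blt j 133 then [nat_lit 3, nat_lit 63, nat_lit 3, nat_lit 63] else [nat_lit 63, nat_lit 2, nat_lit 1, nat_lit 0, nat_lit 2, nat_lit 1, nat_lit 2, nat_lit 0, nat_lit 1, nat_lit 2, nat_lit 0, nat_lit 1, nat_lit 0, nat_lit 2, nat_lit 1, nat_lit 0]
def Wt_131_134 (j : ℕ) : List ℕ := bif Nat.blt j 132 then [nat_lit 63, nat_lit 4, nat_lit 7, nat_lit 4, nat_lit 5, nat_lit 4, nat_lit 5, nat_lit 4, nat_lit 2, nat_lit 0, nat_lit 7, nat_lit 4, nat_lit 5, nat_lit 4, nat_lit 5, nat_lit 7, nat_lit 4, nat_lit 5] else (Wt_132_134 j)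
def Wt_129_134 (j : ℕ) : List ℕ := bif Nat.blt j 131 then (Wt_129_131 j) else (Wt_131_134 j)
def Wt_134_136 (j : ℕ) : List ℕ := bif Nat.blt j 135 then [nat_lit 5, nat_lit 4, nat_lit 5, nat_lit 3, nat_lit 4, nat_lit 5, nat_lit 3, nat_lit 4, nat_lit 3, nat_lit 5, nat_lit 4, nat_lit 3, nat_lit 5, nat_lit 4, nat_lit 3] else [nat_lit 63, nat_lit 4, nat_lit 5, nat_lit 4, nat_lit 5, nat_lit 7, nat_lit 4, nat_lit 5, nat_lit 4, nat_lit 7, nat_lit 4, nat_lit 5, nat_lit 4, nat_lit 5, nat_lit 4, nat_lit 2, nat_lit 0, nat_lit 7]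
def Wt_137_139 (j : ℕ) : List ℕ := bif Nat.blt j 138 then [nat_lit 63, nat_lit 4, nat_lit 3, nat_lit 4, nat_lit 3, nat_lit 4, nat_lit 3] else [nat_lit 63, nat_lit 3, nat_lit 4, nat_lit 3, nat_lit 0, nat_lit 1, nat_lit 0, nat_lit 7, nat_lit 1, nat_lit 0, nat_lit 4, nat_lit 3, nat_lit 7, nat_lit 4, nat_lit 1, nat_lit 7, nat_lit 6]
def Wt_136_139 (j : ℕ) : List ℕ := bif Nat.blt j 137 then [nat_lit 63, nat_lit 2, nat_lit 4, nat_lit 2, nat_lit 4] else (Wt_137_139 j)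
def Wt_134_139 (j : ℕ) : List ℕ := bif Nat.blt j 136 then (Wt_134_136 j) else (Wt_136_139 j)
def Wt_129_139 (j : ℕ) : List ℕ := bif Nat.blt j 134 then (Wt_129_134 j) else (Wt_134_139 j)
def Wt_119_139 (j : ℕ) : List ℕ := bif Nat.blt j 129 then (Wt_119_129 j) else (Wt_129_139 j)
def Wt_139_141 (j : ℕ) : List ℕ := bif Nat.blt j 140 then [nat_lit 63, nat_lit 63, nat_lit 3, nat_lit 63, nat_lit 3] else [nat_lit 63, nat_lit 63, nat_lit 6, nat_lit 63, nat_lit 6]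
def Wt_142_144 (j : ℕ) : List ℕ := bif Nat.blt j 143 then [nat_lit 63, nat_lit 6, nat_lit 3, nat_lit 4, nat_lit 3, nat_lit 0, nat_lit 1, nat_lit 0, nat_lit 7, nat_lit 1, nat_lit 0, nat_lit 4, nat_lit 3, nat_lit 7, nat_lit 4, nat_lit 1, nat_lit 7] else [nat_lit 63, nat_lit 4, nat_lit 1, nat_lit 7, nat_lit 6, nat_lit 3, nat_lit 4, nat_lit 3, nat_lit 0, nat_lit 1, nat_lit 0, nat_lit 7, nat_lit 1, nat_lit 0, nat_lit 4, nat_lit 3, nat_lit 7]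
def Wt_141_144 (j : ℕ) : List ℕ := bif Nat.blt j 142 then [nat_lit 0, nat_lit 4, nat_lit 3, nat_lit 7, nat_lit 4, nat_lit 1, nat_lit 7, nat_lit 6, nat_lit 3, nat_lit 4, nat_lit 3, nat_lit 0, nat_lit 1, nat_lit 0, nat_lit 7, nat_lit 1] else (Wt_142_144 j)
def Wt_139_144 (j : ℕ) : List ℕ := bif Nat.blt j 141 then (Wt_139_141 j) else (Wt_141_144 j)
def Wt_144_146 (j : ℕ) : List ℕ := bif Nat.blt j 145 then [nat_lit 63, nat_lit 0, nat_lit 1, nat_lit 0, nat_lit 3, nat_lit 4, nat_lit 3, nat_lit 6, nat_lit 7, nat_lit 1, nat_lit 4, nat_lit 7, nat_lit 3, nat_lit 4, nat_lit 0, nat_lit 1, nat_lit 7] else [nat_lit 0, nat_lit 7, nat_lit 1, nat_lit 0, nat_lit 4, nat_lit 3, nat_lit 7, nat_lit 4, nat_lit 1, nat_lit 7, nat_lit 6, nat_lit 3, nat_lit 4, nat_lit 3, nat_lit 0, nat_lit 1]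
def Wt_147_149 (j : ℕ) : List ℕ := bif Nat.blt j 148 then [nat_lit 6, nat_lit 7, nat_lit 1, nat_lit 4, nat_lit 7, nat_lit 3, nat_lit 4, nat_lit 0, nat_lit 1, nat_lit 7, nat_lit 0, nat_lit 1, nat_lit 0, nat_lit 3, nat_lit 4, nat_lit 3] else [nat_lit 2, nat_lit 0, nat_lit 7, nat_lit 4, nat_lit 5, nat_lit 4, nat_lit 5, nat_lit 7, nat_lit 4, nat_lit 5, nat_lit 4, nat_lit 7, nat_lit 4, nat_lit 5, nat_lit 4, nat_lit 5, nat_lit 4]
def Wt_146_149 (j : ℕ) : List ℕ := bif Nat.blt j 147 then [nat_lit 63, nat_lit 1, nat_lit 7, nat_lit 6, nat_lit 3, nat_lit 4, nat_lit 3, nat_lit 0, nat_lit 1, nat_lit 0, nat_lit 7, nat_lit 1, nat_lit 0, nat_lit 4, nat_lit 3, nat_lit 7, nat_lit 4] else (Wt_147_149 j)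
def Wt_144_149 (j : ℕ) : List ℕ := bif Nat.blt j 146 then (Wt_144_146 j) else (Wt_146_149 j)
def Wt_139_149 (j : ℕ) : List ℕ := bif Nat.blt j 144 then (Wt_139_144 j) else (Wt_144_149 j)
def Wt_149_151 (j : ℕ) : List ℕ := bif Nat.blt j 150 then [nat_lit 63, nat_lit 7, nat_lit 5, nat_lit 4, nat_lit 5, nat_lit 4, nat_lit 7, nat_lit 0, nat_lit 2, nat_lit 4, nat_lit 5, nat_lit 4, nat_lit 5, nat_lit 4, nat_lit 7, nat_lit 4, nat_lit 5, nat_lit 4] else [nat_lit 63, nat_lit 1, nat_lit 0, nat_lit 4, nat_lit 3, nat_lit 7, nat_lit 4, nat_lit 1, nat_lit 7, nat_lit 6, nat_lit 3, nat_lit 4, nat_lit 3, nat_lit 0, nat_lit 1, nat_lit 0, nat_lit 7]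
def Wt_152_154 (j : ℕ) : List ℕ := bif Nat.blt j 153 then [nat_lit 3, nat_lit 7, nat_lit 4, nat_lit 1, nat_lit 7, nat_lit 6, nat_lit 3, nat_lit 4, nat_lit 3, nat_lit 0, nat_lit 1, nat_lit 0, nat_lit 7, nat_lit 1, nat_lit 0, nat_lit 4] else [nat_lit 63, nat_lit 2, nat_lit 3, nat_lit 2, nat_lit 3]
def Wt_151_154 (j : ℕ) : List ℕ := bif Nat.blt j 152 then [nat_lit 63, nat_lit 3, nat_lit 6, nat_lit 7, nat_lit 1, nat_lit 4, nat_lit 7, nat_lit 3, nat_lit 4, nat_lit 0, nat_lit 1, nat_lit 7, nat_lit 0, nat_lit 1, nat_lit 0, nat_lit 3, nat_lit 4] else (Wt_152_154 j)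
def Wt_149_154 (j : ℕ) : List ℕ := bif Nat.blt j 151 then (Wt_149_151 j) else (Wt_151_154 j)
def Wt_154_156 (j : ℕ) : List ℕ := bif Nat.blt j 155 then [nat_lit 63, nat_lit 0, nat_lit 1, nat_lit 0, nat_lit 1, nat_lit 0, nat_lit 1] else [nat_lit 5, nat_lit 4, nat_lit 3, nat_lit 5, nat_lit 4, nat_lit 5, nat_lit 3, nat_lit 4, nat_lit 5, nat_lit 3, nat_lit 4, nat_lit 3, nat_lit 5, nat_lit 4, nat_lit 3]
def Wt_157_159 (j : ℕ) : List ℕ := bif Nat.blt j 158 then [nat_lit 3, nat_lit 4, nat_lit 3, nat_lit 4, nat_lit 3, nat_lit 4] else [nat_lit 7, nat_lit 4, nat_lit 5, nat_lit 4, nat_lit 5, nat_lit 4, nat_lit 2, nat_lit 0, nat_lit 7, nat_lit 4, nat_lit 5, nat_lit 4, nat_lit 5, nat_lit 7, nat_lit 4, nat_lit 5, nat_lit 4]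
def Wt_156_159 (j : ℕ) : List ℕ := bif Nat.blt j 157 then [nat_lit 6, nat_lit 3, nat_lit 4, nat_lit 3, nat_lit 0, nat_lit 1, nat_lit 0, nat_lit 7, nat_lit 1, nat_lit 0, nat_lit 4, nat_lit 3, nat_lit 7, nat_lit 4, nat_lit 1, nat_lit 7] else (Wt_157_159 j)
def Wt_154_159 (j : ℕ) : List ℕ := bif Nat.blt j 156 then (Wt_154_156 j) else (Wt_156_159 j)
def Wt_149_159 (j : ℕ) : List ℕ := bif Nat.blt j 154 then (Wt_149_154 j) else (Wt_154_159 j)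
def Wt_139_159 (j : ℕ) : List ℕ := bif Nat.blt j 149 then (Wt_139_149 j) else (Wt_149_159 j)
def Wt_119_159 (j : ℕ) : List ℕ := bif Nat.blt j 139 then (Wt_119_139 j) else (Wt_139_159 j)
def Wt_79_159 (j : ℕ) : List ℕ := bif Nat.blt j 119 then (Wt_79_119 j) else (Wt_119_159 j)
def Wt_0_159 (j : ℕ) : List ℕ := bif Nat.blt j 79 then (Wt_0_79 j) else (Wt_79_159 j)
def Wt (j : ℕ) : List ℕ := (Wt_0_159 j)
def W (j : ℕ) : List ℕ := bif Nat.blt j 159 then Wt j else []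
theorem W_ge (j : ℕ) (h : 159 ≤ j) : W j = [] := by
  unfold W
  rw [blt_false_of_le h]
  rfl
def Hl : List ℕ := [nat_lit 0, nat_lit 1, nat_lit 2, nat_lit 3, nat_lit 4, nat_lit 5, nat_lit 6]
def isH (y : ℕ) : Bool := List.elem y Hl
def Rb : List (List ℕ) := [[nat_lit 0, nat_lit 0],
  [nat_lit 1, nat_lit 1],
  [nat_lit 1, nat_lit 0, nat_lit 1, nat_lit 0, nat_lit 1, nat_lit 0],
  [nat_lit 2, nat_lit 2],
  [nat_lit 2, nat_lit 1, nat_lit 2, nat_lit 1, nat_lit 2, nat_lit 1, nat_lit 2, nat_lit 1, nat_lit 2, nat_lit 1],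
  [nat_lit 2, nat_lit 1, nat_lit 0, nat_lit 2, nat_lit 1, nat_lit 0, nat_lit 2, nat_lit 1, nat_lit 2, nat_lit 0, nat_lit 1, nat_lit 2, nat_lit 0, nat_lit 1, nat_lit 0],
  [nat_lit 3, nat_lit 3],
  [nat_lit 3, nat_lit 0, nat_lit 3, nat_lit 0],
  [nat_lit 3, nat_lit 1, nat_lit 3, nat_lit 1],
  [nat_lit 3, nat_lit 2, nat_lit 3, nat_lit 2],
  [nat_lit 4, nat_lit 4],
  [nat_lit 4, nat_lit 0, nat_lit 4, nat_lit 0],
  [nat_lit 4, nat_lit 1, nat_lit 4, nat_lit 1],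
  [nat_lit 4, nat_lit 2, nat_lit 4, nat_lit 2],
  [nat_lit 4, nat_lit 3, nat_lit 4, nat_lit 3, nat_lit 4, nat_lit 3],
  [nat_lit 5, nat_lit 5],
  [nat_lit 5, nat_lit 0, nat_lit 5, nat_lit 0],
  [nat_lit 5, nat_lit 1, nat_lit 5, nat_lit 1],
  [nat_lit 5, nat_lit 2, nat_lit 5, nat_lit 2],
  [nat_lit 5, nat_lit 4, nat_lit 5, nat_lit 4, nat_lit 5, nat_lit 4, nat_lit 5, nat_lit 4, nat_lit 5, nat_lit 4],
  [nat_lit 5, nat_lit 4, nat_lit 3, nat_lit 5, nat_lit 4, nat_lit 3, nat_lit 5, nat_lit 4, nat_lit 5, nat_lit 3, nat_lit 4, nat_lit 5, nat_lit 3, nat_lit 4, nat_lit 3],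
  [nat_lit 6, nat_lit 6],
  [nat_lit 3, nat_lit 6, nat_lit 0, nat_lit 6],
  [nat_lit 4, nat_lit 6, nat_lit 1, nat_lit 6],
  [nat_lit 5, nat_lit 6, nat_lit 2, nat_lit 6],
  [nat_lit 7, nat_lit 7],
  [nat_lit 0, nat_lit 7, nat_lit 1, nat_lit 0, nat_lit 4, nat_lit 3, nat_lit 7, nat_lit 4, nat_lit 1, nat_lit 7, nat_lit 6, nat_lit 3, nat_lit 4, nat_lit 3, nat_lit 0, nat_lit 1],
  [nat_lit 7, nat_lit 4, nat_lit 5, nat_lit 4, nat_lit 5, nat_lit 7, nat_lit 4, nat_lit 5, nat_lit 4, nat_lit 7, nat_lit 4, nat_lit 5, nat_lit 4, nat_lit 5, nat_lit 4, nat_lit 2, nat_lit 0],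
  []]
def spT_1_3 (j : ℕ) : ℕ := bif Nat.blt j 2 then nat_lit 0x2600000006000080370002003600002024000140280000600a0000a03400000004000020220001a037000120370001003500000036000000140001c03600000008000000370000c0360000a0360001003600000032000000320000001e000200370001c03700018037000000160001a035000140350000a034000060370000a03600002037000100370001800b0001000b0000400b0000a00a000000320000c00b0001a0340000c0340000002e000000300000002c000160350000001e000000140000002a000180350000e0340000c029000100280000201a000020220001200a0000400a0001400b0001000a00000036000000260000202000002024 else nat_lit 0x140360000001c000160340000802800002004000020120000c034000080350000403400016037000200360000c03500010034000020340001e0350000e03400014034000080340000002a0000000c000160340000001c0000201a000020360000e0280000600a0000000c00010036000080360000e03600000035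
def spT_0_3 (j : ℕ) : ℕ := bif Nat.blt j 1 then nat_lit 0x2000000000000000c00018037000020260000201600004037000060360000001e0001a03700002036000140370000000600000002000000000000002a0000403600002026000020080000c03600002012000100340000000400002010000040300000402e000000140000000c0000002a000000060000000200000038000000000000002a0000001e0000000c00000006000000320000001400000002000060340000402c0000200e0000003500002018000120340000201c00006030000160350000202e000020300000602e0000202c0000602c0000001200002004000000240000001a00000022000000180000001000000020000000160000000e else (spT_1_3 j)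
def spT (j : ℕ) : ℕ := (spT_0_3 j)
def sp (j : ℕ) : ℕ := Nat.land (Nat.shiftRight (spT (Nat.shiftRight j 6)) (Nat.mul (Nat.land j 63) 32)) 4294967295
theorem Eo_lt (r : ℕ) : Eo r < 18014398509481984 := land54_lt _
def cT_0_2 (j : ℕ) : ℕ := bif Nat.blt j 1 then nat_lit 0x59800059200058b00058800054d00054b0005460005430004fd0004fc0004f80004f50004c100049300042b0004140003fe0003b30003b000039500039400038e00038b00038900038400037400036c00036a00036800036500031c00031a0003190003050002fd0002f20002ed0002eb0002e200027800026a00026500026400025b00025900024800024700023d00023b00023900022900022700022600022500021f00021c00021b00021a0002180002170001dd0001dc0001db0001cf0001cc0001c70001c60001c40001c30001c100019e00019200019100019000016300015e00015d00015c00015400014d00014b00014a00014700014000013f00013e00013b00013600013500011300010b00010a0001080001070001060000d50000d40000cc0000ae0000ad0000a90000a30000a10000a000009c00009a00009900008c00008700008500006000005c00004700004500004400003e00003c00003700003500001f00001e00001200001000000f000006000003000001000000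 else nat_lit 0x6a70006a60006a50006a40006a30006a20005c50005c4
def cT (j : ℕ) : ℕ := (cT_0_2 j)
noncomputable def cChunk (h : ℕ) : ℕ := Nat.rec (motive := fun _ => ℕ) (cT 0) (fun n _ => cT (Nat.succ n)) h
noncomputable def cF (i : ℕ) : ℕ := Nat.land (Nat.shiftRight (cChunk (Nat.shiftRight i 7)) (Nat.mul (Nat.land i 127) 24)) 16777215
theorem cF_lt (i : ℕ) : cF i < 16777216 := land24_lt _
theorem cF_zero : cF 0 = 0 := by decide +kernel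
def nDef : ℕ := 1703
def nEv : ℕ := 5003
def nW : ℕ := 159
def N : ℕ := 136
def ys : List ℕ := [nat_lit 0, nat_lit 1, nat_lit 2, nat_lit 3, nat_lit 4, nat_lit 5, nat_lit 6, nat_lit 7]
end Cfsg.Agent.Lib.ToddCox.SP44T
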