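import Cfsg.Agent.Lib.ToddCox.SP44T.TabD0
set_option autoImplicit false
set_option maxRecDepth 100000
namespace Cfsg.Agent.Lib.ToddCox.SP44T
def tT_0_2 (j : ℕ) : ℕ := bif Nat.blt j 1 then T_0 else T_1
def tT_2_4 (j : ℕ) : ℕ := bif Nat.blt j 3 then T_2 else T_3
def tT_0_4 (j : ℕ) : ℕ := bif Nat.blt j 2 then (tT_0_2 j) else (tT_2_4 j)
def tT_4_6 (j : ℕ) : ℕ := bif Nat.blt j 5 then T_4 else T_5
def tT_6_8 (j : ℕ) : ℕ := bif Nat.blt j 7 then T_6 else T_7
def tT_4_8 (j : ℕ) : ℕ := bif Nat.blt j 6 then (tT_4_6 j) else (tT_6_8 j)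
def tT_0_8 (j : ℕ) : ℕ := bif Nat.blt j 4 then (tT_0_4 j) else (tT_4_8 j)
def tT (j : ℕ) : ℕ := (tT_0_8 j)
noncomputable def tC (h : ℕ) : ℕ := Nat.rec (motive := fun _ => ℕ) (tT 0) (fun n _ => tT (Nat.succ n)) h
noncomputable def tab (y i : ℕ) : ℕ := Nat.land (Nat.shiftRight (tC (Nat.add (Nat.mul y 1) (Nat.shiftRight i 8))) (Nat.mul (Nat.land i 255) 18)) 262143
def prT_0_2 (j : ℕ) : ℕ := bif Nat.blt j 1 then nat_lit 0x20000670a000066060000660c0000640a0000640800005e0c00005c0800005c0c00005b0600005b0a00005a0c0000590a0000590800005906000059020000590c0000580a000058080000580600005804000058080000550a0000530600005304000053000000530c000051080000510c0000500a000050080000500c00004f0a00004f0600004f0c00004e0a00004e0800004e0600004e0400004e0000004e0c00004d0a00004d0600004d0400004d0200004d0c00004c0a00004c0600004c0400004c0200004c0000004c1c000017060000450600003b0a000037060000360a00003406000034080000330a0000300600002d0800002a0a00002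70600002708000026020000260a0000250600002508000024080000230a0000220a0000210600002108000020020000200800001f0400001f0a00001d0a00001c0600001c0a00001b0600001b0800001a080000190a0000180a00001706000017080000160800001504000015080000140a0000130a000012060000120800001104000011000000110a000010060000100800000f0800000e0a00000d0a00000c0600000c0800000b0400000b0000000b0a00000a0600000a0800000902000009080000080a0000070a00000606000006080000050200000508000004040000040a0000030600000308000002040000020000000208000001020000011c00000000000000 else nat_lit 0x400007f0800007e0c00007b0800007b0c0000780a0000780a00006706000067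
def prT (j : ℕ) : ℕ := (prT_0_2 j)
noncomputable def prC (h : ℕ) : ℕ := Nat.rec (motive := fun _ => ℕ) (prT 0) (fun n _ => prT (Nat.succ n)) h
noncomputable def pr (i : ℕ) : ℕ := Nat.land (Nat.shiftRight (prC (Nat.shiftRight i 7)) (Nat.mul (Nat.land i 127) 32)) 4294967295
def invR (y : ℕ) : ℕ := invOf 0x1c61440c2040 y
def Rc : List (List ℕ) := [[nat_lit 0, nat_lit 0],
  [nat_lit 1, nat_lit 1],
  [nat_lit 1, nat_lit 0, nat_lit 1, nat_lit 0, nat_lit 1, nat_lit 0],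
  [nat_lit 2, nat_lit 2],
  [nat_lit 2, nat_lit 1, nat_lit 2, nat_lit 1, nat_lit 2, nat_lit 1, nat_lit 2, nat_lit 1, nat_lit 2, nat_lit 1],
  [nat_lit 2, nat_lit 1, nat_lit 0, nat_lit 2, nat_lit 1, nat_lit 0, nat_lit 2, nat_lit 1, nat_lit 2, nat_lit 0, nat_lit 1, nat_lit 2, nat_lit 0, nat_lit 1, nat_lit 0],
  [nat_lit 3, nat_lit 3],
  [nat_lit 3, nat_lit 0, nat_lit 3, nat_lit 0],
  [nat_lit 3, nat_lit 1, nat_lit 3, nat_lit 1],
  [nat_lit 3, nat_lit 2, nat_lit 3, nat_lit 2],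
  [nat_lit 4, nat_lit 4],
  [nat_lit 4, nat_lit 0, nat_lit 4, nat_lit 0],
  [nat_lit 4, nat_lit 1, nat_lit 4, nat_lit 1],
  [nat_lit 4, nat_lit 2, nat_lit 4, nat_lit 2],
  [nat_lit 4, nat_lit 3, nat_lit 4, nat_lit 3, nat_lit 4, nat_lit 3],
  [nat_lit 5, nat_lit 5],
  [nat_lit 5, nat_lit 0, nat_lit 5, nat_lit 0],
  [nat_lit 5, nat_lit 1, nat_lit 5, nat_lit 1],
  [nat_lit 5, nat_lit 2, nat_lit 5, nat_lit 2],
  [nat_lit 5, nat_lit 4, nat_lit 5, nat_lit 4, nat_lit 5, nat_lit 4, nat_lit 5, nat_lit 4, nat_lit 5, nat_lit 4],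
  [nat_lit 5, nat_lit 4, nat_lit 3, nat_lit 5, nat_lit 4, nat_lit 3, nat_lit 5, nat_lit 4, nat_lit 5, nat_lit 3, nat_lit 4, nat_lit 5, nat_lit 3, nat_lit 4, nat_lit 3],
  [nat_lit 6, nat_lit 6],
  [nat_lit 3, nat_lit 6, nat_lit 0, nat_lit 6],
  [nat_lit 4, nat_lit 6, nat_lit 1, nat_lit 6],
  [nat_lit 5, nat_lit 6, nat_lit 2, nat_lit 6],
  [nat_lit 7, nat_lit 7],
  [nat_lit 0, nat_lit 7, nat_lit 1, nat_lit 0, nat_lit 4, nat_lit 3, nat_lit 7, nat_lit 4, nat_lit 1, nat_lit 7, nat_lit 6, nat_lit 3, nat_lit 4, nat_lit 3, nat_lit 0, nat_lit 1],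
  [nat_lit 7, nat_lit 4, nat_lit 5, nat_lit 4, nat_lit 5, nat_lit 7, nat_lit 4, nat_lit 5, nat_lit 4, nat_lit 7, nat_lit 4, nat_lit 5, nat_lit 4, nat_lit 5, nat_lit 4, nat_lit 2, nat_lit 0]]
def Tw : List (List ℕ) := [[nat_lit 0],
  [nat_lit 1],
  [nat_lit 2],
  [nat_lit 3],
  [nat_lit 4],
  [nat_lit 5],
  [nat_lit 6],
  [nat_lit 0],
  [nat_lit 1],
  [nat_lit 2],
  [nat_lit 3],
  [nat_lit 4],
  [nat_lit 5],
  [nat_lit 6],
  [nat_lit 7]]
def Sw : List (List ℕ) := [[nat_lit 0],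
  [nat_lit 1],
  [nat_lit 2],
  [nat_lit 3],
  [nat_lit 4],
  [nat_lit 5],
  [nat_lit 6]]
def ysR : List ℕ := [nat_lit 0, nat_lit 1, nat_lit 2, nat_lit 3, nat_lit 4, nat_lit 5, nat_lit 6, nat_lit 7]
noncomputable def chkAll (i : ℕ) : Bool := bif Nat.blt i 136 then and (chkPt tab invR 136 ysR Rc i) (bif Nat.beq i 0 then true else chkReachPt tab Tw i (pr i)) else true
end Cfsg.Agent.Lib.ToddCox.SP44T
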